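import Cfsg.Agent.H514.K547.Parity
import Cfsg.Agent.S4551
import Cfsg.Agent.Blocks.CyclicUpper

/-!
# S4547, core lemmas (helper514)

* `inB0_of_centralizer` : the principal block and the centralizer of a Sylow 2-subgroup;
* `good_of_quotient` : the characters of `G / K`, `P C_G(P) ≤ K`, are good;
* `gs_restrict` : Alperin-Dade for the good characters;
* `conj_centralizer` : good characters of `N ≥ P` are `C_G(P)`-invariant.
-/

set_option autoImplicit false

open scoped ComplexConjugate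
open Cfsg Cfsg.Agent.Characters.Core Cfsg.Agent.Blocks.Local Subgroup

namespace Cfsg.Agent.H514.K547

open Cfsg.Agent.H601.K4 Cfsg.Agent.H821.K547 Cfsg.Agent.H618.Sigma

universe u

variable {G : Type u} [Group G] [Finite G]

theorem inB0_of_centralizer (P : Sylow 2 G) {χ : G → ℂ} (hχ : OddIrr χ)
    (h : ∀ y ∈ centralizer ((P : Subgroup G) : Set G), Odd (orderOf y) → χ y = χ 1) : InB0 χ := by
  have : Fact (Nat.Prime 2) := ⟨Nat.prime_two⟩
  intro M hM hi
  have : M.IsPrime := hM.2.1.isPrime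
  refine H700.PRatExt.mem_principalBlock_of_pregular hM P.isPGroup' ⟨χ, hi⟩ hχ.2 fun x hx hx2 => ?_
  show MemLocalIdeal M (χ x - χ 1)
  rw [h x hx (odd_iff.2 hx2), sub_self]
  exact memLocalIdeal_zero

theorem pow_mk_eq (P : Sylow 2 G) (K : Subgroup G) [K.Normal] (hPK : (P : Subgroup G) ≤ K) {k : ℕ} (hk : Cube G k)
    (g : G) : ((g ^ k : G) : G ⧸ K) = (g : G ⧸ K) := by
  have : Fact (Nat.Prime 2) := ⟨Nat.prime_two⟩
  obtain ⟨x, y, rfl, hxy, hx, hy⟩ := exists_decomp g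
  have h1 : ∀ x : G, (∃ j : ℕ, orderOf x = 2 ^ j) → x ∈ K := by
    intro x hx
    have h2 : IsPGroup 2 (zpowers x) := by
      obtain ⟨j, hj⟩ := hx
      exact IsPGroup.of_card (by rw [Nat.card_zpowers, hj])
    obtain ⟨Q, hQ⟩ := h2.exists_le_sylow
    obtain ⟨g, hg⟩ := MulAction.exists_smul_eq G P Q
    have h3 : x ∈ (Q : Subgroup G) := hQ (mem_zpowers x)
    rw [← hg, Sylow.coe_subgroup_smul, Subgroup.mem_pointwise_smul_iff_inv_smul_mem] at h3
    have h4 := hPK h3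
    rw [← map_inv, MulAut.smul_def, MulAut.conj_apply, inv_inv] at h4
    have h5 := (inferInstance : K.Normal).conj_mem _ h4 g
    convert h5 using 1
    group
  have h2 : ((x : G) : G ⧸ K) = 1 := (QuotientGroup.eq_one_iff x).2 (h1 x hx)
  rw [hxy.mul_pow, hk.odd y hy, QuotientGroup.mk_mul, QuotientGroup.mk_mul, QuotientGroup.mk_pow, h2, one_pow]

theorem odd_card_quotient (P : Sylow 2 G) (K : Subgroup G) [K.Normal] (hPK : (P : Subgroup G) ≤ K) :
    ¬ 2 ∣ Nat.card (G ⧸ K) := by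
  have : Fact (Nat.Prime 2) := ⟨Nat.prime_two⟩
  rw [← Subgroup.index_eq_card]
  intro h
  exact P.not_dvd_index (h.trans (Subgroup.index_dvd_of_le hPK))

/-- every irreducible character of the odd order group `G / K` is good for `G` -/
theorem good_of_quotient (P : Sylow 2 G) (K : Subgroup G) [K.Normal] (hPK : (P : Subgroup G) ≤ K)
    (hC : centralizer ((P : Subgroup G) : Set G) ≤ K) {ψ : G ⧸ K → ℂ} (hψ : IsIrrCharacter (G ⧸ K) ψ) :
    Good (fun g : G => ψ (g : G ⧸ K)) := by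
  have : Fact (Nat.Prime 2) := ⟨Nat.prime_two⟩
  have hi : IsIrrCharacter G (fun g : G => ψ (g : G ⧸ K)) :=
    isIrr_comp (QuotientGroup.mk' K) (QuotientGroup.mk'_surjective K) hψ
  have hd : charDegree (fun g : G => ψ (g : G ⧸ K)) = charDegree ψ := by
    rfl
  have hodd : OddIrr (fun g : G => ψ (g : G ⧸ K)) := by
    refine ⟨hi, ?_⟩
    rw [hd]
    intro h
    exact odd_card_quotient P K hPK (h.trans (Cfsg.Agent.Blocks.CyclicUpper.charDegree_dvd hψ))
  refine ⟨hodd, ?_, ?_⟩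
  · intro k h2 h3 g
    show ψ ((g ^ k : G) : G ⧸ K) = ψ (g : G ⧸ K)
    rw [pow_mk_eq P K hPK ⟨h2, h3⟩]
  · refine inB0_of_centralizer P hodd fun y hy _ => ?_
    show ψ (y : G ⧸ K) = ψ ((1 : G) : G ⧸ K)
    rw [(QuotientGroup.eq_one_iff y).2 (hC hy), QuotientGroup.mk_one]

/-- Alperin-Dade -/
theorem gs_restrict (P : Sylow 2 G) (N : Subgroup G) [N.Normal] (hidx : ¬ 2 ∣ N.index)
    (hsup : N ⊔ centralizer ((P : Subgroup G) : Set G) = ⊤) :
    Set.BijOn (fun (χ : G → ℂ) (n : N) => χ n) (gs G) (gs N) := by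
  have : Fact (Nat.Prime 2) := ⟨Nat.prime_two⟩
  obtain ⟨M, hM⟩ := Cfsg.Agent.Blocks.ExistsModular.exists_isPModular Nat.prime_two
  obtain ⟨k, hk⟩ := H740.K4.exists_cube G
  obtain ⟨hres, hext⟩ := S4551.result 2 M hM N hidx P hsup
  have hdeg : ∀ (χ : G → ℂ) (θ : N → ℂ), (∀ n : N, χ n = θ n) → charDegree χ = charDegree θ := by
    intro χ θ h
    unfold charDegree
    rw [← h 1, Subgroup.coe_one]
  refine ⟨?_, ?_, ?_⟩
  · intro χ hχ
    have hχ' : Good χ := hχ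
    obtain ⟨θ, hθ, h1⟩ := hres ⟨χ, hχ'.odd.1⟩ (hχ'.b0 M hM hχ'.odd.1)
    have h2 : (fun n : N => χ n) = (θ : N → ℂ) := funext h1
    show Good (fun n : N => χ n)
    rw [h2]
    refine ⟨⟨θ.2, ?_⟩, ?_, inB0_of_mem hM θ.2 hθ⟩
    · rw [← hdeg χ θ h1]
      exact hχ'.odd.2
    · refine H740.K4.sigFix_of (hk.subgroup N) fun n => ?_
      rw [← h1, ← h1]
      exact hχ'.sig k hk.two hk.odd n
  · intro χ hχ ψ hψ h
    have hχ' : Good χ := hχ
    have hψ' : Good ψ := hψ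
    obtain ⟨θ, hθ, h1⟩ := hres ⟨χ, hχ'.odd.1⟩ (hχ'.b0 M hM hχ'.odd.1)
    have h2 := (hext θ hθ).unique (y₁ := ⟨χ, hχ'.odd.1⟩) (y₂ := ⟨ψ, hψ'.odd.1⟩) ⟨hχ'.b0 M hM hχ'.odd.1, h1⟩
      ⟨hψ'.b0 M hM hψ'.odd.1, fun n => by
        have h3 : χ n = ψ n := congrFun h n
        have h4 : (⟨ψ, hψ'.odd.1⟩ : IrrCharacter G).1 n = ψ n := rfl
        rw [← h1 n]
        exact h3.symm⟩
    exact congrArg Subtype.val h2
  · intro θ hθ
    have hθ' : Good θ := hθ
    obtain ⟨χ, ⟨hχ, h1⟩, hu⟩ := hext ⟨θ, hθ'.odd.1⟩ (hθ'.b0 M hM hθ'.odd.1)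
    have h2 : sig hk χ = χ := by
      apply hu
      refine ⟨sig_mem_principalBlock hk hχ, fun n => ?_⟩
      rw [sig_apply]
      have h3 := h1 (n ^ k)
      rw [Subgroup.coe_pow] at h3
      rw [h3]
      exact hθ'.sig k (hk.subgroup N).two (hk.subgroup N).odd n
    refine ⟨(χ : G → ℂ), ⟨⟨χ.2, ?_⟩, H740.K4.sigFix_of hk ((sig_eq_iff hk χ).1 h2), inB0_of_mem hM χ.2 hχ⟩,
      funext h1⟩
    rw [hdeg χ θ h1]
    exact hθ'.odd.2

/-- a good character of a normal subgroup `N` containing `P` is invariant under `C_G(P)` -/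
theorem conj_centralizer (P : Sylow 2 G) (N : Subgroup G) [hN : N.Normal] (hidx : ¬ 2 ∣ N.index) {θ : N → ℂ}
    (hθ : Good θ) {y : G} (hy : y ∈ centralizer ((P : Subgroup G) : Set G)) (n : N) :
    θ (MulAut.conjNormal y n) = θ n := by
  have : Fact (Nat.Prime 2) := ⟨Nat.prime_two⟩
  set K : Subgroup G := N ⊔ centralizer ((P : Subgroup G) : Set G) with hK
  have hNK : N ≤ K := le_sup_left
  have hPN : (P : Subgroup G) ≤ N := by
    intro x hx
    by_contra hxN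
    obtain ⟨j, hj⟩ := (IsPGroup.iff_orderOf.1 P.isPGroup') ⟨x, hx⟩
    rw [Subgroup.orderOf_mk] at hj
    have h1 : orderOf (x : G ⧸ N) ∣ 2 ^ j := by
      rw [← hj]
      exact orderOf_map_dvd (QuotientGroup.mk' N) x
    have h2 : orderOf (x : G ⧸ N) ∣ N.index := by
      rw [Subgroup.index_eq_card]
      exact orderOf_dvd_natCard _
    obtain ⟨i, -, hi⟩ := (Nat.dvd_prime_pow Nat.prime_two).1 h1
    rcases Nat.eq_zero_or_pos i with h3 | h3
    · rw [h3, pow_zero, orderOf_eq_one_iff, QuotientGroup.eq_one_iff] at hi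
      exact hxN hi
    · exact hidx ((dvd_pow_self 2 h3.ne').trans (hi ▸ h2))
  have hPK : (P : Subgroup G) ≤ K := hPN.trans hNK
  let P' : Sylow 2 K := P.subtype hPK
  let N' : Subgroup K := N.subgroupOf K
  have hN' : N'.Normal := inferInstance
  have hidx' : ¬ 2 ∣ N'.index := fun h => hidx (h.trans (Subgroup.relIndex_dvd_index_of_normal N K))
  have hsup : N' ⊔ centralizer ((P' : Subgroup K) : Set K) = ⊤ := by
    rw [eq_top_iff]
    rintro ⟨z, hz⟩ -
    obtain ⟨n, hn, c, hc, rfl⟩ := Subgroup.mem_sup_of_normal_left.1 (hK ▸ hz)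
    have hcK : c ∈ K := by
      rw [hK]
      exact Subgroup.mem_sup_right hc
    refine Subgroup.mem_sup_of_normal_left.2 ⟨⟨n, hNK hn⟩, hn, ⟨c, hcK⟩, ?_, rfl⟩
    rw [mem_centralizer_iff]
    intro w hw
    exact Subtype.ext (mem_centralizer_iff.1 hc (w : G) hw)
  -- the isomorphism
  let e : N' ≃* N := Subgroup.subgroupOfEquivOfLe hNK
  have hg : Good (fun n : N' => θ (e n)) := H740.K4.good_comp e hθ
  obtain ⟨χ, hχ, hχ'⟩ := (gs_restrict P' N' hidx' hsup).surjOn hg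
  have hyK : y ∈ K := by
    rw [hK]
    exact Subgroup.mem_sup_right hy
  have hval : ∀ n : N, θ n = χ ⟨n, hNK n.2⟩ := by
    intro n
    have h1 := congrFun hχ' (e.symm n)
    have h2 : e (e.symm n) = n := e.apply_symm_apply n
    change χ ((e.symm n : N') : K) = θ (e (e.symm n)) at h1
    rw [h2] at h1
    rw [← h1]
    rfl
  rw [hval, hval]
  have h1 := isIrr_isClassFunction (hχ : Good χ).odd.1 ⟨n, hNK n.2⟩ ⟨y, hyK⟩
  rw [← h1]
  rfl

end Cfsg.Agent.H514.K547
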