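import Cfsg.Agent.H514.K547.Defs
import Cfsg.Agent.H601.K4.InvParity
import Cfsg.Agent.H740.K4.Equiv
import Cfsg.Agent.H626.PrincipalOver
import Cfsg.Agent.S0902
import Cfsg.Agent.H700.PRatExt

/-!
# S4547, parity (helper514)

* `not_dvd_sum` : `H` contains a Sylow `p`-subgroup, `η` is in the principal block of `H` and of degree prime to `p`:
  the sum of `χ(1) [χ_H, η]` over the principal block of `G` is prime to `p`;
* `inB0_of_mem` : the principal block does not depend on the maximal ideal;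
* `exists_good_over` : a good character over a good character, fixed by an automorphism.
-/

set_option autoImplicit false

open scoped ComplexConjugate
open Cfsg Cfsg.Agent.Characters.Core Cfsg.Agent.Blocks.Local

namespace Cfsg.Agent.H514.K547

open Cfsg.Agent.H626

universe u

section sum

variable {G : Type u} [Group G] [Finite G] {p : ℕ} [hp : Fact p.Prime] {M : Ideal AlgInt}

theorem not_dvd_sum (hM : IsPModular p M) (P : Sylow p G) (H : Subgroup G) [Fintype H]
    (hPH : (P : Subgroup G) ≤ H) (η : IrrCharacter H) (hη : η ∈ principalBlock M H)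
    (hdeg : ¬ p ∣ charDegree (η : H → ℂ)) (O : Finset (IrrCharacter G)) (hO : ∀ χ, χ ∈ O ↔ χ ∈ principalBlock M G)
    (m : IrrCharacter G → ℕ)
    (hm : ∀ χ : IrrCharacter G, classInner (η : H → ℂ) (fun h : H => (χ : G → ℂ) h) = m χ) :
    ¬ p ∣ ∑ χ ∈ O, charDegree (χ : G → ℂ) * m χ := by
  classical
  have := Fintype.ofFinite G
  have hMp : M.IsPrime := isPrime_of_isPModular hM
  have hfin : Finite (IrrCharacter G) := finite_irr
  have := Fintype.ofFinite (IrrCharacter G)
  have hηR : ∀ x, MemLocalRing M ((η : H → ℂ) x) := fun x =>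
    memLocalRing_of_isIntegral (Blocks.Central.isIntegral_irr η.2 x)
  have hηc := isIrr_isClassFunction η.2
  let P' : Sylow p H := P.subtype hPH
  have hcP : ∀ x : H, x ∈ Subgroup.centralizer ((P' : Subgroup H) : Set H) →
      (x : G) ∈ Subgroup.centralizer ((P : Subgroup G) : Set G) := by
    intro x hx
    rw [Subgroup.mem_centralizer_iff] at hx ⊢
    intro y hy
    exact congrArg (Subtype.val : H → G) (hx ⟨y, hPH hy⟩ hy)
  obtain ⟨d, hd0, hd⟩ := isIrr_apply_one η.2
  have hdeg' : charDegree (η : H → ℂ) = d := by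
    rw [charDegree, hd]
    simp
  rw [hdeg'] at hdeg
  have hB0G := isPBlock_principal M G
  have hB0H := isPBlock_principal M H
  set S := creg p (P' : Subgroup H) (η : H → ℂ) with hS
  have hSR : MemLocalRing M S := by
    rw [hS, creg]
    exact memLocalRing_sum fun x _ => hηR x
  -- in `H`
  have k1 : MemLocalIdeal M (∑ x : H, blockCoeff (principalBlock M H) x * (η : H → ℂ) x -
      (nreg p H : ℂ)⁻¹ * S) :=
    sum_congr_creg hM (P' : Subgroup H) P'.2 _ _
      (fun u _ x => Blocks.BlockIdem.isClassFunction_blockCoeff _ x u) (fun u _ x => hηc x u)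
      (fun x => S0913.result p M hM _ hB0H x) hηR _ (fun x hx => blockCoeff_singular hM hx)
      (fun x hx hx' => blockCoeff_centralizer hM P' hx hx')
  have k2 : ∑ x : H, blockCoeff (principalBlock M H) x * (η : H → ℂ) x = d := by
    have := Blocks.BlockIdem.lin_blockCoeff (principalBlock M H) η
    rw [Blocks.ConvCentral.lin_def, if_pos hη, hd] at this
    exact this
  rw [k2] at k1
  have hSunit : ¬ MemLocalIdeal M S := by
    intro h
    have h1 : MemLocalIdeal M (d : ℂ) := by
      rw [memLocalIdeal_iff_of_sub k1]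
      exact memLocalIdeal_mul_left (memLocalRing_inv_natCast hM nreg_not_dvd) h
    exact hdeg ((memLocalIdeal_natCast_iff hM d).1 h1)
  -- in `G`
  have k3 : MemLocalIdeal M (∑ x : H, blockCoeff (principalBlock M G) (x : G) * (η : H → ℂ) x -
      (nreg p G : ℂ)⁻¹ * S) :=
    sum_congr_creg hM (P' : Subgroup H) P'.2 (fun x : H => blockCoeff (principalBlock M G) (x : G)) _
      (fun u _ x => Blocks.BlockIdem.isClassFunction_blockCoeff _ (x : G) (u : G))
      (fun u _ x => hηc x u)
      (fun x => S0913.result p M hM _ hB0G x) hηR _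
      (fun x hx => blockCoeff_singular hM (by rwa [Subgroup.orderOf_coe]))
      (fun x hx hx' => blockCoeff_centralizer hM P (hcP x hx) (by rwa [Subgroup.orderOf_coe]))
  have k4 : ¬ MemLocalIdeal M
      (∑ x : H, blockCoeff (principalBlock M G) (x : G) * (η : H → ℂ) x) := by
    rw [memLocalIdeal_iff_of_sub k3]
    intro h
    rcases memLocalIdeal_or_of_mul (memLocalRing_inv_natCast hM nreg_not_dvd) hSR h with h1 | h1
    · have h2 : MemLocalIdeal M ((nreg p G : ℂ) * (nreg p G : ℂ)⁻¹) :=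
        memLocalIdeal_mul_left (memLocalRing_natCast _) h1
      have h3 : (nreg p G : ℂ) ≠ 0 := by
        have : nreg p G ≠ 0 := fun h0 => nreg_not_dvd (p := p) (G := G) (h0 ▸ dvd_zero p)
        exact_mod_cast this
      rw [mul_inv_cancel₀ h3] at h2
      exact not_memLocalIdeal_one h2
    · exact hSunit h1
  have he : ∀ χ : IrrCharacter G, (χ : G → ℂ) 1 = charDegree (χ : G → ℂ) := fun χ =>
    Cfsg.Agent.Blocks.Basic.irr_one_eq_charDegree χ.2
  have k5 : (H.index : ℂ) * ∑ x : H, blockCoeff (principalBlock M G) (x : G) * (η : H → ℂ) x =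
      ∑ χ ∈ O, ((charDegree (χ : G → ℂ) * m χ : ℕ) : ℂ) := by
    have hcoe : ∀ x : G, blockCoeff (principalBlock M G) x = (Nat.card G : ℂ)⁻¹ *
        ∑ χ ∈ O, (χ : G → ℂ) 1 * conj ((χ : G → ℂ) x) := by
      intro x
      rw [blockCoeff, finsum_mem_eq_toFinset_sum]
      congr 1
      refine Finset.sum_congr ?_ fun _ _ => rfl
      ext χ
      rw [Set.mem_toFinset, hO]
    have hH0 : (Nat.card H : ℂ) ≠ 0 := by exact_mod_cast Nat.card_pos.ne'
    have hG0 : (Nat.card G : ℂ) ≠ 0 := by exact_mod_cast Nat.card_pos.ne'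
    have hGH : (Nat.card G : ℂ) = Nat.card H * H.index := by
      exact_mod_cast (H.card_mul_index).symm
    have hH1 : (H.index : ℂ) ≠ 0 := by exact_mod_cast H.index_ne_zero_of_finite
    have e1 : ∀ x : H, blockCoeff (principalBlock M G) (x : G) * (η : H → ℂ) x =
        ∑ χ ∈ O, (Nat.card G : ℂ)⁻¹ *
          ((charDegree (χ : G → ℂ) : ℂ) * ((η : H → ℂ) x * conj ((χ : G → ℂ) x))) := by
      intro x
      rw [hcoe, Finset.mul_sum, Finset.sum_mul]
      refine Finset.sum_congr rfl fun χ _ => ?_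
      rw [he]
      ring
    rw [Finset.sum_congr rfl (fun x _ => e1 x), Finset.sum_comm, Finset.mul_sum]
    refine Finset.sum_congr rfl fun χ _ => ?_
    rw [← Finset.mul_sum, ← Finset.mul_sum]
    have e2 : ∑ x : H, (η : H → ℂ) x * conj ((χ : G → ℂ) x) = Nat.card H * m χ := by
      rw [← hm χ, classInner_def, mul_inv_cancel_left₀ hH0]
    rw [e2, hGH]
    push_cast
    field_simp
  have hidx : ¬ p ∣ H.index := by
    intro h
    exact P.not_dvd_index (h.trans (Subgroup.index_dvd_of_le hPH))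
  intro hdvd
  have k6 : MemLocalIdeal M (∑ χ ∈ O, ((charDegree (χ : G → ℂ) * m χ : ℕ) : ℂ)) := by
    rw [← Nat.cast_sum]
    exact (memLocalIdeal_natCast_iff hM _).2 hdvd
  rw [← k5] at k6
  have hR : MemLocalRing M
      (∑ x : H, blockCoeff (principalBlock M G) (x : G) * (η : H → ℂ) x) :=
    memLocalRing_sum fun x _ =>
      memLocalRing_mul (S0913.result p M hM _ hB0G (x : G)) (hηR x)
  rcases memLocalIdeal_or_of_mul (memLocalRing_natCast _) hR k6 with h1 | h1
  · exact hidx ((memLocalIdeal_natCast_iff hM _).1 h1)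
  · exact k4 h1

end sum

open Cfsg.Agent.H601.K4 Cfsg.Agent.H821.K547 Cfsg.Agent.H618.Sigma

/-- the principal block does not depend on the maximal ideal -/
theorem inB0_of_mem {G : Type u} [Group G] [Finite G] {M : Ideal AlgInt} (hM : IsPModular 2 M) {χ : G → ℂ}
    (hi : IsIrrCharacter G χ) (h : (⟨χ, hi⟩ : IrrCharacter G) ∈ principalBlock M G) : InB0 χ := by
  have := fact_two'
  intro M' hM' hi' g
  have : M'.IsPrime := hM'.2.1.isPrime
  obtain ⟨r, hr, hr'⟩ := S0902.result 2 M hM ⟨fun _ => 1, Cfsg.Agent.Blocks.Basic.isIrrCharacter_one⟩ ⟨χ, hi⟩ h M' hM' g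
  rw [← hr']
  exact memLocalIdeal_of_mem hr
where
  fact_two' : Fact (Nat.Prime 2) := ⟨Nat.prime_two⟩

variable {G : Type u} [Group G] [Finite G]

/-- **A good character over a good character, fixed by an automorphism.** -/
theorem exists_good_over (H : Subgroup G) (hH : ¬ 2 ∣ H.index) {η : H → ℂ} (hη : Good η) (τ : MulAut G)
    (hτ : TwoPow τ) (hτH : ∀ h ∈ H, τ h ∈ H) (hτη : ∀ h : H, η ⟨τ h, hτH h h.2⟩ = η h) :
    ∃ χ : G → ℂ, Good χ ∧ (∀ g, χ (τ g) = χ g) ∧
      ∃ m : ℕ, Odd m ∧ ∀ [Fintype H], classInner (fun h : H => χ h) η = m := by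
  classical
  have : Fact (Nat.Prime 2) := ⟨Nat.prime_two⟩
  obtain ⟨M, hM⟩ := Cfsg.Agent.Blocks.ExistsModular.exists_isPModular Nat.prime_two
  obtain ⟨k, hk⟩ := H740.K4.exists_cube G
  have : Finite (IrrCharacter G) := finite_irr
  have := Fintype.ofFinite (IrrCharacter G)
  have hFH := Fintype.ofFinite H
  -- a Sylow subgroup in `H`
  obtain ⟨P, hP⟩ := H700.PRatExt.exists_sylow_le H hH
  let η' : IrrCharacter H := ⟨η, hη.odd.1⟩
  have hη' : η' ∈ principalBlock M H := hη.b0 M hM hη.odd.1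
  choose m hm using fun χ : IrrCharacter G => classInner_isNat (isIrr_isCharacter η'.2)
    (Characters.Clifford.isCharacter_restrict H (isIrr_isCharacter χ.2))
  have h1 := not_dvd_sum hM P H hP η' hη' hη.odd.2 (Finset.univ.filter (· ∈ principalBlock M G))
    (fun χ => by simp) m hm
  -- cubing
  have hms : ∀ χ : IrrCharacter G, m (sig hk χ) = m χ := by
    intro χ
    have h2 : (m (sig hk χ) : ℂ) = m χ := by
      rw [← hm, ← hm, classInner_def, classInner_def]
      congr 1
      rw [← Function.Bijective.sum_comp (H740.K4.bij_pow (hk.subgroup H))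
        fun h : H => (η' : H → ℂ) h * conj ((χ : G → ℂ) h)]
      refine Finset.sum_congr rfl fun h _ => ?_
      have h3 := hη.sig k (hk.subgroup H).two (hk.subgroup H).odd h
      show η h * conj ((χ : G → ℂ) ((h : G) ^ k)) = η (h ^ k) * conj ((χ : G → ℂ) ((h ^ k : H) : G))
      rw [h3, Subgroup.coe_pow]
    exact_mod_cast h2
  have hτb : Function.Bijective fun h : H => (⟨τ h, hτH h h.2⟩ : H) := by
    rw [← Finite.injective_iff_bijective]
    intro a b hab
    have : τ (a : G) = τ b := congrArg Subtype.val hab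
    exact Subtype.ext (τ.injective this)
  have hmt : ∀ χ : IrrCharacter G, m (tauI τ χ) = m χ := by
    intro χ
    have h2 : (m (tauI τ χ) : ℂ) = m χ := by
      rw [← hm, ← hm, classInner_def, classInner_def]
      congr 1
      rw [← Function.Bijective.sum_comp hτb fun h : H => (η' : H → ℂ) h * conj ((χ : G → ℂ) h)]
      refine Finset.sum_congr rfl fun h _ => ?_
      show η h * conj ((χ : G → ℂ) (τ h)) = η ⟨τ h, hτH h h.2⟩ * conj ((χ : G → ℂ) (τ h))
      rw [hτη]
    exact_mod_cast h2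
  set f : IrrCharacter G → ZMod 2 := fun χ => (charDegree (χ : G → ℂ) : ZMod 2) * (m χ : ZMod 2) with hf
  have h2 : ∑ χ : IrrCharacter G with χ ∈ principalBlock M G, f χ ≠ 0 := by
    intro h3
    apply h1
    rw [← ZMod.natCast_eq_zero_iff]
    push_cast
    exact h3
  obtain ⟨n, hn⟩ := hk.exists_iter
  rw [sum_fixed_pred (sig hk) n (fun χ => Subtype.ext (funext fun g => by rw [sig_iter, hn]))
    (fun χ => χ ∈ principalBlock M G) (fun χ h => sig_mem_principalBlock hk h) f
    (fun χ _ => by simp only [hf, hms, charDegree_sig])] at h2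
  -- the good ones
  have h3 : ∀ χ : IrrCharacter G, Good (χ : G → ℂ) ↔ (χ ∈ principalBlock M G ∧ sig hk χ = χ) ∧
      Odd (charDegree (χ : G → ℂ)) := by
    intro χ
    constructor
    · intro h
      exact ⟨⟨h.b0 M hM h.odd.1, (sig_eq_iff hk χ).2 (h.sig k hk.two hk.odd)⟩, odd_iff.2 h.odd.2⟩
    · rintro ⟨⟨h4, h5⟩, h6⟩
      exact ⟨⟨χ.2, odd_iff.1 h6⟩, H740.K4.sigFix_of hk ((sig_eq_iff hk χ).1 h5), inB0_of_mem hM χ.2 h4⟩
  have h4 : ∑ χ : IrrCharacter G with (χ ∈ principalBlock M G ∧ sig hk χ = χ), f χ =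
      ∑ χ ∈ Finset.univ.filter (fun χ : IrrCharacter G => Good (χ : G → ℂ)), f χ := by
    symm
    refine Finset.sum_subset (fun χ hχ => ?_) (fun χ hχ hχ' => ?_)
    · rw [Finset.mem_filter] at hχ ⊢
      exact ⟨hχ.1, ((h3 χ).1 hχ.2).1⟩
    · rw [Finset.mem_filter] at hχ hχ'
      have h5 : ¬ Odd (charDegree (χ : G → ℂ)) := fun h => hχ' ⟨Finset.mem_univ _, (h3 χ).2 ⟨hχ.2, h⟩⟩
      rw [hf]
      simp only
      rw [ZMod.natCast_eq_zero_iff_even.2 (Nat.not_odd_iff_even.1 h5), zero_mul]
  rw [h4] at h2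
  obtain ⟨e, s, hs⟩ := hτ
  rw [sum_fixed_pred (tauI τ) e (tauI_two hs) (fun χ => Good (χ : G → ℂ)) (fun χ h =>
    H740.K4.good_comp τ h) f (fun χ _ => by simp only [hf, hmt, charDegree_tauI])] at h2
  obtain ⟨χ, hχ, hχ'⟩ := Finset.exists_ne_zero_of_sum_ne_zero h2
  rw [Finset.mem_filter] at hχ
  refine ⟨χ, hχ.2.1, (tauI_eq_iff τ χ).1 hχ.2.2, m χ, ?_, ?_⟩
  · rw [← Nat.not_even_iff_odd, ← ZMod.natCast_eq_zero_iff_even]
    intro h5
    apply hχ'
    rw [hf]
    simp only
    rw [h5, mul_zero]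
  · have key : classInner (fun h : H => (χ : G → ℂ) h) η = m χ := by
      have h5 := hm χ
      rw [classInner_def] at h5 ⊢
      have h6 := congrArg conj h5
      rw [Complex.conj_natCast] at h6
      rw [← h6, map_mul, map_sum]
      congr 1
      · simp
      · refine Finset.sum_congr rfl fun h _ => ?_
        rw [map_mul, Complex.conj_conj, mul_comm]
    intro hF
    have hE : hF = hFH := Subsingleton.elim _ _
    rw [hE]
    exact key

end Cfsg.Agent.H514.K547
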