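import Cfsg.Agent.H514.K547.Core
import Cfsg.Agent.Blocks.PrincipalInflate
import Cfsg.Agent.H714.K4.Defs
import Cfsg.Agent.H133.PB.Basic

/-!
# S4547, quotients (helper514)

* `good_comp_iff` : inflation of good characters;
* `fg_le_of_surjective` : `fg Q ≤ fg G` for a homomorphism of `G` onto `Q`;
* `fg_of_surjective_odd`, `fg_quot_odd` : equality if the kernel has odd order;
* `fg_congr`.
-/

set_option autoImplicit false

open scoped ComplexConjugate
open Cfsg Cfsg.Agent.Characters.Core Cfsg.Agent.Blocks Cfsg.Agent.Blocks.Local Subgroup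

namespace Cfsg.Agent.H514.K547

open Cfsg.Agent.H601.K4 Cfsg.Agent.H821.K547 Cfsg.Agent.H618.Sigma

universe u v

variable {G : Type u} [Group G] [Finite G] {Q : Type v} [Group Q] [Finite Q]

theorem map_pow_cube (f : G →* Q) {k k' : ℕ} (hk : Cube G k) (hk' : Cube Q k') (g : G) : f g ^ k' = f (g ^ k) := by
  obtain ⟨x, y, rfl, hxy, hx, hy⟩ := exists_decomp g
  have h1 : ∃ j : ℕ, orderOf (f x) = 2 ^ j := by
    obtain ⟨j, hj⟩ := hx
    have h2 : orderOf (f x) ∣ 2 ^ j := hj ▸ orderOf_map_dvd f x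
    obtain ⟨i, -, hi⟩ := (Nat.dvd_prime_pow Nat.prime_two).1 h2
    exact ⟨i, hi⟩
  have h2 : Odd (orderOf (f y)) := hy.of_dvd_nat (orderOf_map_dvd f y)
  rw [map_mul, (hxy.map f).mul_pow, hxy.mul_pow, hk'.two _ h1, hk'.odd _ h2, map_mul, hk.two x hx, hk.odd y hy,
    map_pow]

theorem sigFix_comp (f : G →* Q) {ψ : Q → ℂ} (h : SigFix ψ) : SigFix (fun g => ψ (f g)) := by
  intro k h2 h3 g
  obtain ⟨k', hk'⟩ := H740.K4.exists_cube Q
  show ψ (f (g ^ k)) = ψ (f g)
  rw [← map_pow_cube f ⟨h2, h3⟩ hk', h k' hk'.two hk'.odd]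

theorem sigFix_of_comp (f : G →* Q) (hf : Function.Surjective f) {ψ : Q → ℂ} (h : SigFix (fun g => ψ (f g))) :
    SigFix ψ := by
  intro k' h2 h3 q
  obtain ⟨k, hk⟩ := H740.K4.exists_cube G
  obtain ⟨g, rfl⟩ := hf q
  rw [map_pow_cube f hk ⟨h2, h3⟩]
  exact h k hk.two hk.odd g

/-- inflation of a good character -/
theorem good_comp_surjective (f : G →* Q) (hf : Function.Surjective f) {ψ : Q → ℂ} (h : Good ψ) :
    Good (fun g => ψ (f g)) := by
  obtain ⟨M, hM⟩ := Cfsg.Agent.Blocks.ExistsModular.exists_isPModular Nat.prime_two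
  have := isPrime_of_isPModular hM
  have h1 : IsIrrCharacter G (fun g => ψ (f g)) := isIrr_comp f hf h.odd.1
  refine ⟨⟨h1, ?_⟩, sigFix_comp f h.sig, ?_⟩
  · rw [H714.K4.charDegree_comp]
    exact h.odd.2
  · exact inB0_of_mem hM h1 (H133.PB.mem_principalBlock_comp f hf (h.b0 M hM h.odd.1))

theorem comp_mem_gs (f : G →* Q) (hf : Function.Surjective f) :
    Set.MapsTo (fun (ψ : Q → ℂ) (g : G) => ψ (f g)) (gs Q) (gs G) := fun _ h => good_comp_surjective f hf h

theorem comp_injective (f : G →* Q) (hf : Function.Surjective f) :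
    Function.Injective (fun (ψ : Q → ℂ) (g : G) => ψ (f g)) := by
  intro ψ ψ' h
  funext q
  obtain ⟨g, rfl⟩ := hf q
  exact congrFun h g

end Cfsg.Agent.H514.K547

namespace Cfsg.Agent.H514.K547

open Cfsg.Agent.H601.K4 Cfsg.Agent.H821.K547 Cfsg.Agent.H618.Sigma

universe u v

variable {G : Type u} [Group G] [Finite G]

theorem fg_le_of_surjective {Q : Type v} [Group Q] (f : G →* Q) (hf : Function.Surjective f) : fg Q ≤ fg G := by
  have : Finite Q := Finite.of_surjective f hf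
  have h1 : ((fun (ψ : Q → ℂ) (g : G) => ψ (f g)) '' gs Q) ⊆ gs G := by
    rintro _ ⟨ψ, hψ, rfl⟩
    exact good_comp_surjective f hf hψ
  have h2 := Set.ncard_le_ncard h1 (gs_finite G)
  rwa [Set.ncard_image_of_injective _ (comp_injective f hf)] at h2

theorem fg_of_surjective_odd {Q : Type v} [Group Q] (f : G →* Q) (hf : Function.Surjective f)
    (hK : ¬ 2 ∣ Nat.card f.ker) : fg Q = fg G := by
  have : Finite Q := Finite.of_surjective f hf
  have : Fact (Nat.Prime 2) := ⟨Nat.prime_two⟩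
  obtain ⟨M, hM⟩ := Cfsg.Agent.Blocks.ExistsModular.exists_isPModular Nat.prime_two
  have := isPrime_of_isPModular hM
  refine le_antisymm (fg_le_of_surjective f hf) ?_
  have h1 : gs G ⊆ (fun (ψ : Q → ℂ) (g : G) => ψ (f g)) '' gs Q := by
    intro χ hχ
    have hχ' : Good χ := hχ
    obtain ⟨ψ, hψ, h⟩ := PrincipalInflate.exists_comp hM hf hK (ψ := ⟨χ, hχ'.odd.1⟩) (hχ'.b0 M hM hχ'.odd.1)
    have h' : χ = fun g => (ψ : Q → ℂ) (f g) := h
    refine ⟨ψ, ⟨⟨ψ.2, ?_⟩, ?_, inB0_of_mem hM ψ.2 hψ⟩, h'.symm⟩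
    · have h3 := hχ'.odd.2
      rw [h', H714.K4.charDegree_comp] at h3
      exact h3
    · refine sigFix_of_comp f hf ?_
      rw [← h']
      exact hχ'.sig
  refine (Set.ncard_le_ncard h1 ((gs_finite Q).image _)).trans ?_
  exact Set.ncard_image_le (gs_finite Q)

theorem fg_quot_odd (N : Subgroup G) [N.Normal] (h : ¬ 2 ∣ Nat.card N) : fg (G ⧸ N) = fg G :=
  fg_of_surjective_odd (QuotientGroup.mk' N) (QuotientGroup.mk'_surjective N) (by rwa [QuotientGroup.ker_mk'])

theorem fg_congr {H : Type v} [Group H] (e : G ≃* H) : fg G = fg H := by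
  have : Finite H := Finite.of_equiv _ e.toEquiv
  exact le_antisymm (fg_le_of_surjective e.symm.toMonoidHom e.symm.surjective)
    (fg_le_of_surjective e.toMonoidHom e.surjective)

end Cfsg.Agent.H514.K547
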