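import Cfsg.Agent.H821.K547.Defs
import Cfsg.Agent.H740.K4.Bridge
import Cfsg.Agent.H618.Complement

/-!
# S4547: the reduction (helper514), interface

* `gs G` : the good characters of `G` (odd degree, `σ`-fixed, principal 2-block), `fg G` their number;
* `gsx N x` : the good characters of the normal subgroup `N` fixed by conjugation with `x`;
* `TT G` : the Sylow 2-subgroups of `G` need at least three generators iff `G` has at least five good characters.
-/

set_option autoImplicit false

namespace Cfsg.Agent.H514.K547

open Cfsg Subgroup Cfsg.Agent.H601.K4 Cfsg.Agent.H821.K547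

universe u

/-- the good characters -/
def gs (G : Type u) [Group G] : Set (G → ℂ) := {χ | Good χ}

/-- the number of the good characters -/
noncomputable def fg (G : Type u) [Group G] : ℕ := (gs G).ncard

/-- the good characters of the normal subgroup `N` fixed by conjugation with `x` -/
def gsx {G : Type u} [Group G] (N : Subgroup G) [N.Normal] (x : G) : Set (N → ℂ) :=
  {θ | Good θ ∧ ∀ n : N, θ (MulAut.conjNormal x n) = θ n}

/-- the statement which is proved by induction -/
def TT (G : Type u) [Group G] : Prop := D3 G ↔ 5 ≤ fg G

theorem gs_finite (G : Type u) [Group G] [Finite G] : (gs G).Finite := by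
  have : Finite (IrrCharacter G) := Cfsg.Agent.Characters.Core.finite_irr
  have h : (Set.range fun χ : IrrCharacter G => (χ : G → ℂ)).Finite := Set.finite_range _
  exact h.subset fun χ hχ => ⟨⟨χ, hχ.odd.1⟩, rfl⟩

theorem gsx_finite {G : Type u} [Group G] [Finite G] (N : Subgroup G) [N.Normal] (x : G) : (gsx N x).Finite :=
  (gs_finite N).subset fun _ h => h.1

theorem one_mem_gs (G : Type u) [Group G] [Finite G] : (fun _ => 1) ∈ gs G := H740.K4.good_one'

theorem one_mem_gsx {G : Type u} [Group G] [Finite G] (N : Subgroup G) [N.Normal] (x : G) :
    (fun _ => 1) ∈ gsx N x := ⟨H740.K4.good_one', fun _ => rfl⟩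

end Cfsg.Agent.H514.K547
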