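import Cfsg.Agent.H386.Factor
import Cfsg.Agent.Transfer.NormalPComplement
import Cfsg.Agent.Lib.Cores
import Cfsg.Agent.Transfer.Residual
import Cfsg.Agent.S0081

/-!
# S4547, group theory for the reduction (helper514)

* `MinN` : minimal normal subgroups; `N` is a `2`-group or `O²(N) = N`; Tate's theorem;
* `MinN.setup`, `exists_generator`, `residual_sup`, `residual_inf_sylow` : `G ⧸ N` with cyclic Sylow 2-subgroups;
* `MinN.blocks` : `N` is a nonabelian minimal normal subgroup of `G`, `G ⧸ N` is a cyclic 2-group and `N` is not simple: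
  then `N = N₁ × N₂` where `N₁` and `N₂` are swapped by a generator of `G ⧸ N`.
-/

set_option autoImplicit false

namespace Cfsg.Agent.H514.K547

open Cfsg Subgroup Cfsg.Agent.Transfer.Residual

universe u v

theorem fact_two' : Fact (Nat.Prime 2) := ⟨Nat.prime_two⟩

/-- minimal normal subgroups -/
structure MinN {G : Type u} [Group G] (N : Subgroup G) : Prop where
  normal : N.Normal
  ne : N ≠ ⊥
  min : ∀ K : Subgroup G, K.Normal → K ≤ N → K = ⊥ ∨ K = N

/-- a cyclic Sylow 2-subgroup gives a normal complement -/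
theorem complement_of_cyclic {X : Type u} [Group X] [Finite X] (Q : Sylow 2 X) (hQ : IsCyclic ↥Q) :
    HasNormalPComplement 2 X := by
  have := fact_two'
  by_cases h2 : 2 ∣ Nat.card X
  · have hmin : (Nat.card X).minFac = 2 := (Nat.minFac_eq_two_iff _).2 h2
    have hcomp := IsCyclic.isComplement' hmin hQ
    exact ⟨Q, _, inferInstance, hcomp⟩
  · have hQb : (Q : Subgroup X) = ⊥ := by
      rw [← card_eq_one]
      obtain ⟨k, hk⟩ := IsPGroup.iff_card.1 Q.isPGroup'
      rcases Nat.eq_zero_or_pos k with rfl | hpos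
      · exact hk
      · exact absurd ((hk ▸ dvd_pow_self 2 hpos.ne').trans (card_subgroup_dvd_card (Q : Subgroup X))) h2
    refine ⟨Q, ⊤, inferInstance, ?_⟩
    rw [hQb]
    exact isComplement'_top_bot

theorem odd_residual_of_cyclic {X : Type u} [Group X] [Finite X] (Q : Sylow 2 X) (hQ : IsCyclic ↥Q) :
    ¬ 2 ∣ Nat.card (pResidual 2 X) := by
  have := fact_two'
  have h := Transfer.NormalPComplement.hasNormalPComplement_iff_coprime.1 (complement_of_cyclic Q hQ)
  intro h2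
  have h3 := Nat.Coprime.eq_one_of_dvd h.symm h2
  omega

/-- `O²(X) = X` of even order: no cyclic Sylow 2-subgroups -/
theorem not_cyclic_of_perfect {X : Type u} [Group X] [Finite X] (h : pResidual 2 X = ⊤) (he : 2 ∣ Nat.card X)
    (Q : Sylow 2 X) : ¬ IsCyclic ↥Q := by
  intro hQ
  apply odd_residual_of_cyclic Q hQ
  rw [h, card_top]
  exact he

variable {G : Type u} [Group G] [Finite G]

/-- a minimal normal subgroup is a 2-group or `O²(N) = N` -/
theorem MinN.residual {N : Subgroup G} (hN : MinN N) : IsPGroup 2 N ∨ pResidual 2 N = ⊤ := by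
  have := fact_two'
  have := hN.normal
  have hc : (pResidual 2 N).Characteristic := pResidual_characteristic 2
  have hn : ((pResidual 2 N).map N.subtype).Normal := ConjAct.normal_of_characteristic_of_normal
  rcases hN.min _ hn (map_subtype_le _) with h | h
  · left
    have h1 : pResidual 2 N = ⊥ := (map_eq_bot_iff_of_injective _ N.subtype_injective).1 h
    have h2 : IsPGroup 2 (N ⧸ (⊥ : Subgroup N)) := isPGroup_quotient_of_pResidual_le h1.le
    exact h2.of_equiv QuotientGroup.quotientBot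
  · right
    apply map_injective N.subtype_injective
    rw [h, ← MonoidHom.range_eq_map, N.range_subtype]

/-- `N ∩ P ≤ Φ(P)`, Tate -/
theorem MinN.le_frattini {N : Subgroup G} (hN : MinN N) (hodd : 2 ∣ Nat.card N) (P : Sylow 2 G)
    (h : N ⊓ (P : Subgroup G) ≤ (frattini ↥P).map (P : Subgroup G).subtype) :
    N ≤ (frattini ↥P).map (P : Subgroup G).subtype := by
  have := fact_two'
  have := hN.normal
  rcases hN.residual with h2 | h2
  · have h3 : N ≤ (P : Subgroup G) := by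
      obtain ⟨Q, hQ⟩ := h2.exists_le_sylow
      obtain ⟨g, hg⟩ := MulAction.exists_smul_eq G Q P
      intro n hn
      rw [← hg, Sylow.coe_subgroup_smul, Subgroup.mem_pointwise_smul_iff_inv_smul_mem]
      apply hQ
      have h4 := hN.normal.conj_mem n hn g⁻¹
      rw [← map_inv, MulAut.smul_def, MulAut.conj_apply]
      exact h4
    rwa [inf_eq_left.2 h3] at h
  · exfalso
    have h3 := Transfer.NormalPComplement.hasNormalPComplement_iff_coprime.1 (S0081.result P N h)
    rw [h2, card_top] at h3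
    have h4 := Nat.Coprime.eq_one_of_dvd h3.symm hodd
    omega

/-- normal 2-subgroups lie in `P` -/
theorem le_sylow_of_normal (N : Subgroup G) (hn : N.Normal) (h2 : IsPGroup 2 N) (P : Sylow 2 G) :
    N ≤ (P : Subgroup G) := by
  have := fact_two'
  obtain ⟨Q, hQ⟩ := h2.exists_le_sylow
  obtain ⟨g, hg⟩ := MulAction.exists_smul_eq G Q P
  intro n hn'
  rw [← hg, Sylow.coe_subgroup_smul, Subgroup.mem_pointwise_smul_iff_inv_smul_mem]
  apply hQ
  have h4 := hn.conj_mem n hn' g⁻¹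
  rw [← map_inv, MulAut.smul_def, MulAut.conj_apply]
  exact h4

/-! ### the 2-residual -/

/-- cyclic Sylow 2-subgroups of `G ⧸ N` -/
theorem MinN.setup {N : Subgroup G} (hN : MinN N) (hO : ∀ K : Subgroup G, K.Normal → ¬ 2 ∣ Nat.card K → K = ⊥)
    (hG : ¬ IsPGroup 2 G) [N.Normal] (Q : Sylow 2 (G ⧸ N)) (hQ : IsCyclic ↥Q) :
    N ≤ pResidual 2 G ∧ ¬ 2 ∣ N.relIndex (pResidual 2 G) := by
  have := fact_two'
  have hLn : (pResidual 2 G).Normal := pResidual_normal 2
  have h1 : (pResidual 2 G).map (QuotientGroup.mk' N) = pResidual 2 (G ⧸ N) :=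
    map_pResidual_of_surjective (QuotientGroup.mk' N) (QuotientGroup.mk'_surjective N)
  have h2 := odd_residual_of_cyclic Q hQ
  rw [← h1] at h2
  have h3 : N.relIndex (pResidual 2 G) = Nat.card ((pResidual 2 G).map (QuotientGroup.mk' N)) := by
    rw [← relIndex_ker, QuotientGroup.ker_mk']
  rw [← h3] at h2
  refine ⟨?_, h2⟩
  by_contra hle
  have h4 : N ⊓ pResidual 2 G = ⊥ := by
    rcases hN.min (N ⊓ pResidual 2 G) inferInstance inf_le_left with h | h
    · exact h
    · exact absurd (inf_eq_left.1 h) hle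
  have h5 : N.relIndex (pResidual 2 G) = Nat.card (pResidual 2 G) := by
    rw [relIndex, ← inf_subgroupOf_right, h4, bot_subgroupOf, index_bot]
  rw [h5] at h2
  have h6 := hO _ hLn h2
  apply hG
  have h7 : IsPGroup 2 (G ⧸ (⊥ : Subgroup G)) := isPGroup_quotient_of_pResidual_le h6.le
  exact h7.of_equiv QuotientGroup.quotientBot

/-- a generator of `P` modulo `N` -/
theorem exists_generator (N : Subgroup G) [N.Normal] (Q : Sylow 2 (G ⧸ N)) (hQ : IsCyclic ↥Q) (P : Sylow 2 G) :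
    ∃ x ∈ (P : Subgroup G), (P : Subgroup G) ≤ N ⊔ zpowers x := by
  have := fact_two'
  let R : Sylow 2 (G ⧸ N) := P.mapSurjective (f := QuotientGroup.mk' N) (QuotientGroup.mk'_surjective N)
  have hR : IsCyclic ↥R := (Sylow.equiv Q R).isCyclic.1 hQ
  have hRc : (R : Subgroup (G ⧸ N)) = (P : Subgroup G).map (QuotientGroup.mk' N) := rfl
  obtain ⟨⟨y, hy⟩, hgen⟩ := hR.exists_generator
  have hy' : y ∈ (P : Subgroup G).map (QuotientGroup.mk' N) := hy
  obtain ⟨x, hxP, hxy⟩ := hy'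
  refine ⟨x, hxP, fun z hz => ?_⟩
  have h1 : (QuotientGroup.mk' N z) ∈ (R : Subgroup (G ⧸ N)) := ⟨z, hz, rfl⟩
  obtain ⟨i, hi⟩ := mem_zpowers_iff.1 (hgen ⟨_, h1⟩)
  have h2 : y ^ i = QuotientGroup.mk' N z := congrArg Subtype.val hi
  rw [← hxy, ← map_zpow] at h2
  have h3 : z * (x ^ i)⁻¹ ∈ N := by
    rw [← QuotientGroup.ker_mk' N, MonoidHom.mem_ker, map_mul, map_inv, h2, mul_inv_cancel]
  have h4 : z = z * (x ^ i)⁻¹ * x ^ i := by group
  rw [h4]
  exact mul_mem (mem_sup_left h3) (mem_sup_right (zpow_mem (mem_zpowers x) i))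

theorem residual_sup (N : Subgroup G) (hNL : N ≤ pResidual 2 G) (P : Sylow 2 G) {x : G}
    (hx : (P : Subgroup G) ≤ N ⊔ zpowers x) : pResidual 2 G ⊔ zpowers x = ⊤ := by
  have := fact_two'
  have h1 := pResidual_sup_sylow P
  rw [eq_top_iff, ← h1]
  exact sup_le le_sup_left (hx.trans (sup_le (hNL.trans le_sup_left) le_sup_right))

/-- `L ∩ P = N` for a 2-group `N` of odd index in `L` -/
theorem residual_inf_sylow (L N : Subgroup G) (hNL : N ≤ L) (hodd : ¬ 2 ∣ N.relIndex L) (P : Sylow 2 G)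
    (hNP : N ≤ (P : Subgroup G)) : L ⊓ (P : Subgroup G) = N := by
  have := fact_two'
  have hNQ : N ≤ L ⊓ (P : Subgroup G) := le_inf hNL hNP
  refine le_antisymm ?_ hNQ
  rw [← relIndex_eq_one]
  have h1 := relIndex_mul_relIndex N (L ⊓ (P : Subgroup G)) L hNQ inf_le_left
  have h2 : N.relIndex (L ⊓ (P : Subgroup G)) ∣ Nat.card ↥(L ⊓ (P : Subgroup G)) := relIndex_dvd_card _ _
  obtain ⟨k, hk⟩ := IsPGroup.iff_card.1 (P.isPGroup'.to_le (inf_le_right : L ⊓ (P : Subgroup G) ≤ P))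
  rw [hk] at h2
  obtain ⟨j, -, hj⟩ := (Nat.dvd_prime_pow Nat.prime_two).1 h2
  rcases Nat.eq_zero_or_pos j with h3 | h3
  · rw [hj, h3, pow_zero]
  · exact absurd ((dvd_pow_self 2 h3.ne').trans (hj ▸ (Dvd.intro _ h1))) hodd

/-- `P ≤ N` if the index of `N` is odd -/
theorem sylow_le_of_index (N : Subgroup G) [N.Normal] (h : ¬ 2 ∣ N.index) (P : Sylow 2 G) : (P : Subgroup G) ≤ N := by
  have := fact_two'
  intro x hx
  by_contra hxN
  obtain ⟨j, hj⟩ := (IsPGroup.iff_orderOf.1 P.isPGroup') ⟨x, hx⟩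
  rw [Subgroup.orderOf_mk] at hj
  have h1 : orderOf (x : G ⧸ N) ∣ 2 ^ j := by
    rw [← hj]
    exact orderOf_map_dvd (QuotientGroup.mk' N) x
  have h2 : orderOf (x : G ⧸ N) ∣ N.index := by
    rw [Subgroup.index_eq_card]
    exact orderOf_dvd_natCard _
  obtain ⟨i, -, hi⟩ := (Nat.dvd_prime_pow Nat.prime_two).1 h1
  rcases Nat.eq_zero_or_pos i with h3 | h3
  · rw [h3, pow_zero, orderOf_eq_one_iff, QuotientGroup.eq_one_iff] at hi
    exact hxN hi
  · exact h ((dvd_pow_self 2 h3.ne').trans (hi ▸ h2))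

/-! ### two blocks of simple factors -/

open Cfsg.Agent.H386.Factor

/-- the subgroup of index 2 -/
theorem not_mem_sq {N : Subgroup G} [N.Normal] (hp : IsPGroup 2 (G ⧸ N)) {x : G} (hx : N ⊔ zpowers x = ⊤)
    (hne : N ≠ ⊤) : x ∉ N ⊔ zpowers (x ^ 2) := by
  have := fact_two'
  intro h
  obtain ⟨n, hn, y, hy, hny⟩ := mem_sup_of_normal_left.1 h
  obtain ⟨i, rfl⟩ := mem_zpowers_iff.1 hy
  -- in the quotient
  have h1 : (x : G ⧸ N) = (x : G ⧸ N) ^ (2 * i) := by
    have h2 : ((n * (x ^ 2) ^ i : G) : G ⧸ N) = (x : G ⧸ N) := by rw [hny]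
    rw [QuotientGroup.mk_mul, (QuotientGroup.eq_one_iff n).2 hn, one_mul, QuotientGroup.mk_zpow,
      QuotientGroup.mk_pow] at h2
    rw [zpow_mul, zpow_ofNat]
    exact h2.symm
  obtain ⟨k, hk⟩ := (IsPGroup.iff_orderOf.1 hp) (x : G ⧸ N)
  have h2 : (x : G ⧸ N) ^ (2 * i - 1) = 1 := by
    rw [zpow_sub, zpow_one, ← h1, mul_inv_cancel]
  have h3 : ((2 ^ k : ℕ) : ℤ) ∣ 2 * i - 1 := by
    rw [← hk]
    exact orderOf_dvd_iff_zpow_eq_one.2 h2
  have h4 : (x : G ⧸ N) = 1 := by
    rcases Nat.eq_zero_or_pos k with h5 | h5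
    · rw [h5, pow_zero, orderOf_eq_one_iff] at hk
      exact hk
    · exfalso
      have h6 : (2 : ℤ) ∣ 2 * i - 1 := by
        refine Dvd.dvd.trans ?_ h3
        push_cast
        exact dvd_pow_self 2 h5.ne'
      omega
  apply hne
  rw [← hx, sup_eq_left.2]
  rw [zpowers_le]
  exact (QuotientGroup.eq_one_iff x).1 h4

/-- elements of `G` -/
theorem mem_or {N : Subgroup G} [N.Normal] {x : G} (hx : N ⊔ zpowers x = ⊤) (g : G) :
    g ∈ N ⊔ zpowers (x ^ 2) ∨ ∃ g' ∈ N ⊔ zpowers (x ^ 2), g = x * g' := by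
  have hg : g ∈ N ⊔ zpowers x := by rw [hx]; trivial
  obtain ⟨n, hn, y, hy, rfl⟩ := mem_sup_of_normal_left.1 hg
  obtain ⟨i, rfl⟩ := mem_zpowers_iff.1 hy
  have hpow : ∀ j : ℤ, x ^ (2 * j) ∈ zpowers (x ^ 2) := by
    intro j
    rw [mem_zpowers_iff]
    refine ⟨j, ?_⟩
    rw [zpow_mul, zpow_ofNat]
  rcases Int.even_or_odd' i with ⟨j, rfl | rfl⟩
  · left
    exact mul_mem (mem_sup_left hn) (mem_sup_right (hpow j))
  · right
    refine ⟨x⁻¹ * n * x * x ^ (2 * j), mul_mem (mem_sup_left ?_) (mem_sup_right (hpow j)), ?_⟩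
    · have h1 := (inferInstance : N.Normal).conj_mem n hn x⁻¹
      rwa [inv_inv] at h1
    · rw [add_comm, zpow_add, zpow_one]
      group

/-- **two blocks** -/
theorem MinN.blocks {N : Subgroup G} (hN : MinN N) [N.Normal] (hna : ¬ ∀ x ∈ N, ∀ y ∈ N, Commute x y)
    (hp : IsPGroup 2 (G ⧸ N)) {x : G} (hx : N ⊔ zpowers x = ⊤) (hne : N ≠ ⊤) {T : Subgroup G} (hT : IsFactor N T)
    (hTN : T ≠ N) :
    ∃ N₁ N₂ : Subgroup G, N₁ ⊓ N₂ = ⊥ ∧ N₁ ⊔ N₂ = N ∧ (∀ a ∈ N₁, ∀ b ∈ N₂, Commute a b) ∧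
      N₁.map (MulAut.conj x).toMonoidHom = N₂ ∧ N₂.map (MulAut.conj x).toMonoidHom = N₁ := by
  have := fact_two'
  set G₀ : Subgroup G := N ⊔ zpowers (x ^ 2) with hG₀
  have hNG : N ≤ G₀ := le_sup_left
  have hx2 : x ^ 2 ∈ G₀ := mem_sup_right (mem_zpowers _)
  have hxG : x ∉ G₀ := not_mem_sq hp hx hne
  have hGn : ∀ g ∈ G₀, x * g * x⁻¹ ∈ G₀ := by
    intro g hg
    obtain ⟨n, hn, y, hy, rfl⟩ := mem_sup_of_normal_left.1 hg
    obtain ⟨i, rfl⟩ := mem_zpowers_iff.1 hy
    have h1 : x * (n * (x ^ 2) ^ i) * x⁻¹ = (x * n * x⁻¹) * (x ^ 2) ^ i := by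
      have h2 : Commute x ((x ^ 2) ^ i) := ((Commute.refl x).pow_right 2).zpow_right i
      have h3 : (x ^ 2) ^ i * x⁻¹ = x⁻¹ * (x ^ 2) ^ i := (h2.inv_left.eq).symm
      rw [mul_assoc x, mul_assoc n, h3]
      group
    rw [h1]
    exact mul_mem (hNG ((inferInstance : N.Normal).conj_mem n hn x)) (zpow_mem hx2 i)
  -- the normalizer of `T`
  have hnorm : ∀ g : G, (∀ t ∈ T, g * t * g⁻¹ ∈ T) → g ∈ G₀ := by
    intro g hg
    have hfin : ∀ g : G, (∀ t ∈ T, g * t * g⁻¹ ∈ T) → g ∈ normalizer (T : Set G) := by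
      intro g hg
      exact mem_normalizer_fintype hg
    have hgT := hfin g hg
    have hNT : N ≤ normalizer (T : Set G) := fun n hn => hfin n (hT.norm n hn)
    rcases mem_or hx g with h | ⟨g', hg', rfl⟩
    · exact h
    · exfalso
      obtain ⟨n, hn, y, hy, rfl⟩ := mem_sup_of_normal_left.1 hg'
      obtain ⟨i, rfl⟩ := mem_zpowers_iff.1 hy
      -- an odd power of `x` normalizes `T`
      have h1 : x ^ (2 * i + 1) ∈ normalizer (T : Set G) := by
        have h2 : x ^ (2 * i + 1) = (x * n * x⁻¹)⁻¹ * (x * (n * (x ^ 2) ^ i)) := by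
          have h3 : (x ^ 2) ^ i = x ^ (2 * i) := by
            rw [zpow_mul, zpow_ofNat]
          rw [h3, add_comm, zpow_add, zpow_one]
          group
        rw [h2]
        exact mul_mem (inv_mem (hNT ((inferInstance : N.Normal).conj_mem n hn x))) hgT
      obtain ⟨k, hk⟩ := hp (x : G ⧸ N)
      have h2 : x ^ (2 ^ k) ∈ normalizer (T : Set G) := by
        apply hNT
        rw [← QuotientGroup.eq_one_iff, QuotientGroup.mk_pow]
        exact hk
      have h3 : IsCoprime (2 * i + 1) ((2 ^ k : ℕ) : ℤ) := by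
        push_cast
        apply IsCoprime.pow_right
        exact ⟨1, -i, by ring⟩
      obtain ⟨a, b, hab⟩ := h3
      have h4 : x ∈ normalizer (T : Set G) := by
        have h5 : x = (x ^ (2 * i + 1)) ^ a * (x ^ (2 ^ k)) ^ b := by
          rw [← zpow_mul, ← zpow_natCast x, ← zpow_mul, ← zpow_add, mul_comm (2 * i + 1) a,
            mul_comm ((2 ^ k : ℕ) : ℤ) b, hab, zpow_one]
        rw [h5]
        exact mul_mem (zpow_mem h1 a) (zpow_mem h2 b)
      have h5 : normalizer (T : Set G) = ⊤ := by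
        rw [eq_top_iff, ← hx]
        exact sup_le hNT (by rwa [zpowers_le])
      have h6 : T.Normal := normalizer_eq_top_iff.1 h5
      rcases hN.min T h6 hT.le with h | h
      · exact hT.ne_bot h
      · exact hTN h
  -- the blocks
  let X : Set G := {y | ∃ g ∈ G₀, ∃ t ∈ T, y = g * t * g⁻¹}
  have hX : ∀ g ∈ G₀, ∀ t ∈ T, g * t * g⁻¹ ∈ closure X := fun g hg t ht => subset_closure ⟨g, hg, t, ht, rfl⟩
  have hcl : ∀ g ∈ G₀, ∀ y ∈ closure X, g * y * g⁻¹ ∈ closure X := by
    intro g hg y hy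
    have h1 : closure X ≤ (closure X).comap (MulAut.conj g).toMonoidHom := by
      rw [closure_le]
      rintro _ ⟨h, hh, t, ht, rfl⟩
      show g * (h * t * h⁻¹) * g⁻¹ ∈ closure X
      have h2 : g * (h * t * h⁻¹) * g⁻¹ = (g * h) * t * (g * h)⁻¹ := by group
      rw [h2]
      exact hX _ (mul_mem hg hh) t ht
    exact h1 hy
  have hmem2 : ∀ y, y ∈ (closure X).map (MulAut.conj x).toMonoidHom ↔ x⁻¹ * y * x ∈ closure X := by
    intro y
    constructor
    · rintro ⟨z, hz, rfl⟩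
      have h1 : x⁻¹ * ((MulAut.conj x).toMonoidHom z) * x = z := by
        show x⁻¹ * (x * z * x⁻¹) * x = z
        group
      rw [h1]
      exact hz
    · intro h
      refine ⟨_, h, ?_⟩
      show x * (x⁻¹ * y * x) * x⁻¹ = y
      group
  have hcomm : ∀ a ∈ closure X, ∀ b ∈ (closure X).map (MulAut.conj x).toMonoidHom, Commute a b := by
    -- the generators commute
    have h0 : ∀ a ∈ X, ∀ b ∈ X, Commute a (x * b * x⁻¹) := by
      rintro _ ⟨g, hg, s, hs, rfl⟩ _ ⟨h, hh, t, ht, rfl⟩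
      rcases hT.conj (g⁻¹ * x * h) with h1 | h1
      · exfalso
        have h2 := hnorm _ h1
        apply hxG
        have h3 : x = g * (g⁻¹ * x * h) * h⁻¹ := by group
        rw [h3]
        exact mul_mem (mul_mem hg h2) (inv_mem hh)
      · have h2 := h1 s hs t ht
        show g * s * g⁻¹ * (x * (h * t * h⁻¹) * x⁻¹) = x * (h * t * h⁻¹) * x⁻¹ * (g * s * g⁻¹)
        have h3 : g * s * g⁻¹ * (x * (h * t * h⁻¹) * x⁻¹) =
            g * (s * (g⁻¹ * x * h * t * (g⁻¹ * x * h)⁻¹)) * g⁻¹ := by group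
        rw [h3, h2]
        group
    have h1 : ∀ b ∈ X, closure X ≤ centralizer {x * b * x⁻¹} := by
      intro b hb
      rw [closure_le]
      intro a ha
      rw [SetLike.mem_coe, mem_centralizer_singleton_iff]
      exact h0 a ha b hb
    intro a ha b hb
    obtain ⟨c, hc, rfl⟩ := hb
    have h2 : closure X ≤ (centralizer {a}).comap (MulAut.conj x).toMonoidHom := by
      rw [closure_le]
      intro b hb
      rw [SetLike.mem_coe, mem_comap, mem_centralizer_singleton_iff]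
      have h3 := h1 b hb ha
      rw [mem_centralizer_singleton_iff] at h3
      exact h3.symm
    have h3 := h2 hc
    rw [mem_comap, mem_centralizer_singleton_iff] at h3
    exact h3.symm
  have hTall : ∀ g : G, ∀ t ∈ T, g * t * g⁻¹ ∈ N := fun g t ht => (inferInstance : N.Normal).conj_mem t (hT.le ht) g
  have hle1 : closure X ≤ N := by
    rw [closure_le]
    rintro _ ⟨g, -, t, ht, rfl⟩
    exact hTall g t ht
  have hle2 : (closure X).map (MulAut.conj x).toMonoidHom ≤ N := by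
    rintro _ ⟨y, hy, rfl⟩
    exact (inferInstance : N.Normal).conj_mem y (hle1 hy) x
  have hsup : closure X ⊔ (closure X).map (MulAut.conj x).toMonoidHom = N := by
    refine le_antisymm (sup_le hle1 hle2) (hT.gen _ fun g t ht => ?_)
    rcases mem_or hx g with h | ⟨g', hg', rfl⟩
    · exact mem_sup_left (hX g h t ht)
    · refine mem_sup_right ⟨g' * t * g'⁻¹, hX g' hg' t ht, ?_⟩
      show x * (g' * t * g'⁻¹) * x⁻¹ = x * g' * t * (x * g')⁻¹
      group
  refine ⟨closure X, (closure X).map (MulAut.conj x).toMonoidHom, ?_, hsup, hcomm, rfl, ?_⟩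
  · refine eq_bot_of_abelian hN.min hna hT (inf_le_left.trans hle1) ?_ ?_
    · intro n hn k hk
      -- `N₁ ∩ N₂` is central
      have h1 : N ≤ centralizer {k} := by
        rw [← hsup]
        refine sup_le (fun a ha => ?_) (fun b hb => ?_)
        · rw [mem_centralizer_singleton_iff]
          exact hcomm a ha k hk.2
        · rw [mem_centralizer_singleton_iff]
          exact (hcomm k hk.1 b hb).symm
      have h2 := h1 hn
      rw [mem_centralizer_singleton_iff] at h2
      rw [h2, mul_inv_cancel_right]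
      exact hk
    · intro a ha b hb
      exact hcomm a ha.1 b hb.2
  · apply le_antisymm
    · rintro _ ⟨y, hy, rfl⟩
      rw [SetLike.mem_coe, hmem2] at hy
      show x * y * x⁻¹ ∈ closure X
      have h1 := hcl _ hx2 _ hy
      have h2 : x ^ 2 * (x⁻¹ * y * x) * (x ^ 2)⁻¹ = x * y * x⁻¹ := by group
      rwa [h2] at h1
    · intro y hy
      refine ⟨x⁻¹ * y * x, ?_, ?_⟩
      · rw [SetLike.mem_coe, hmem2]
        have h1 := hcl _ (inv_mem hx2) _ hy
        have h2 : (x ^ 2)⁻¹ * y * (x ^ 2)⁻¹⁻¹ = x⁻¹ * (x⁻¹ * y * x) * x := by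
          rw [inv_inv, sq, mul_inv_rev]
          simp only [mul_assoc]
        rwa [h2] at h1
      · show x * (x⁻¹ * y * x) * x⁻¹ = y
        group

end Cfsg.Agent.H514.K547
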